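-- Team project CS3 = S4284 (helper81), abstract lemma [B6] (helper54): two commuting
-- automorphisms of order dividing `s` of a finite abelian `s'`-group `V` such that every
-- fixed point of every `f^i g^j` (not both exponents divisible by `s`) lies in a subgroup `V0`
-- force `V0 = V`.
import Mathlib

set_option autoImplicit false

namespace Cfsg.Agent.Lib.Helper54.CS3

universe u

/-- Reindexing a product over `range s` by multiplication with a unit modulo the prime `s`. -/
theorem prod_mul_mod54 {M : Type*} [CommMonoid M] {s i : ℕ} (hs : s.Prime) (hi1 : 0 < i)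
    (his : i < s) (G : ℕ → M) :
    ∏ k ∈ Finset.range s, G ((k * i) % s) = ∏ j ∈ Finset.range s, G j := by
  have hcop : Nat.gcd s i = 1 := Nat.coprime_of_lt_prime hi1.ne' his hs
  have hinj : Set.InjOn (fun k => (k * i) % s) (Finset.range s : Set ℕ) := by
    intro k hk k' hk' h
    simp only [Finset.coe_range, Set.mem_Iio] at hk hk'
    have h1 : k * i ≡ k' * i [MOD s] := h
    have h2 : k ≡ k' [MOD s] := Nat.ModEq.cancel_right_of_coprime hcop h1
    have h3 : k % s = k' % s := h2
    rwa [Nat.mod_eq_of_lt hk, Nat.mod_eq_of_lt hk'] at h3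
  have himg : (Finset.range s).image (fun k => (k * i) % s) = Finset.range s := by
    apply Finset.eq_of_subset_of_card_le
    · intro x hx
      obtain ⟨k, -, rfl⟩ := Finset.mem_image.1 hx
      exact Finset.mem_range.2 (Nat.mod_lt _ hs.pos)
    · rw [Finset.card_image_of_injOn hinj]
  rw [← Finset.prod_image hinj, himg]

section fpf

variable {V : Type u} [CommGroup V]

/-- The norm of `v` along the powers `h^0, …, h^(s-1)`. -/
def nrm54 (s : ℕ) (h : MulAut V) (v : V) : V := ∏ i ∈ Finset.range s, (h ^ i) v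

theorem nrm54_fixed {s : ℕ} {h : MulAut V} (hs : h ^ s = 1) (v : V) :
    h (nrm54 s h v) = nrm54 s h v := by
  unfold nrm54
  rw [map_prod]
  have h1 : ∀ i ∈ Finset.range s, h ((h ^ i) v) = (h ^ (i + 1)) v := by
    intro i _
    rw [pow_succ']
    rfl
  rw [Finset.prod_congr rfl h1]
  have e1 := Finset.prod_range_succ' (fun i => (h ^ i) v) s
  have e2 := Finset.prod_range_succ (fun i => (h ^ i) v) s
  rw [e1] at e2
  simp only [pow_zero, hs] at e2
  exact mul_right_cancel e2

/-- [B6]. -/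
theorem fpf_two54 [Finite V] {s : ℕ} (hs : s.Prime) (hV : (Nat.card V).Coprime s)
    (f g : MulAut V) (hfg : f * g = g * f) (hf : f ^ s = 1) (hg : g ^ s = 1)
    (V0 : Subgroup V)
    (hfix : ∀ i j : ℕ, ¬ (s ∣ i ∧ s ∣ j) → ∀ v : V, (f ^ i * g ^ j) v = v → v ∈ V0) :
    ∀ v : V, v ∈ V0 := by
  intro v
  have hcomm : Commute f g := hfg
  have hs1 : ¬ s ∣ 1 := fun h => hs.one_lt.ne' (Nat.dvd_one.1 h)
  have hNg : ∀ w : V, nrm54 s g w ∈ V0 := by
    intro w
    apply hfix 0 1 (fun h => hs1 h.2)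
    simp only [pow_zero, one_mul, pow_one]
    exact nrm54_fixed hg w
  have hNk : ∀ k : ℕ, nrm54 s (f * g ^ k) v ∈ V0 := by
    intro k
    have hk : (f * g ^ k) ^ s = 1 := by
      rw [(hcomm.pow_right k).mul_pow, hf, ← pow_mul, mul_comm k s, pow_mul, hg, one_pow, one_mul]
    apply hfix 1 k (fun h => hs1 h.1)
    rw [pow_one]
    exact nrm54_fixed hk v
  have key : ∏ k ∈ Finset.range s, nrm54 s (f * g ^ k) v =
      v ^ s * ∏ i ∈ Finset.Ico 1 s, nrm54 s g ((f ^ i) v) := by
    unfold nrm54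
    rw [Finset.prod_comm, Finset.range_eq_Ico, Finset.prod_eq_prod_Ico_succ_bot hs.pos]
    congr 1
    · simp
    · apply Finset.prod_congr rfl
      intro i hi
      rw [Finset.mem_Ico] at hi
      have h1 : ∀ k ∈ Finset.Ico 0 s, ((f * g ^ k) ^ i) v = (g ^ ((k * i) % s)) ((f ^ i) v) := by
        intro k _
        rw [(hcomm.pow_right k).mul_pow, ← pow_mul, ((hcomm.pow_left i).pow_right (k * i)).eq,
          pow_eq_pow_mod (k * i) hg]
        rfl
      rw [Finset.prod_congr rfl h1, ← Finset.range_eq_Ico]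
      exact prod_mul_mod54 hs (by omega) hi.2 (fun j => (g ^ j) ((f ^ i) v))
  have hvs : v ^ s ∈ V0 := by
    have h1 : ∏ k ∈ Finset.range s, nrm54 s (f * g ^ k) v ∈ V0 :=
      Subgroup.prod_mem _ (fun k _ => hNk k)
    have h2 : ∏ i ∈ Finset.Ico 1 s, nrm54 s g ((f ^ i) v) ∈ V0 :=
      Subgroup.prod_mem _ (fun i _ => hNg _)
    rw [key] at h1
    exact (Subgroup.mul_mem_cancel_right _ h2).1 h1
  have hcop : Nat.Coprime s (orderOf v) :=
    (Nat.Coprime.coprime_dvd_left (orderOf_dvd_natCard v) hV).symm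
  obtain ⟨t, ht⟩ := exists_pow_eq_self_of_coprime hcop
  rw [← ht]
  exact Subgroup.pow_mem _ hvs t

end fpf

end Cfsg.Agent.Lib.Helper54.CS3
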