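-- Team project CS3 = S4284 (helper81), package [SQ] (helper54): `m` is squarefree.
import Mathlib
import Cfsg.Agent.Lib.Helper81.CS3.NGDefs
import Cfsg.Agent.Lib.Helper54.CS3.FPF

set_option autoImplicit false

namespace Cfsg.Agent.Lib.Helper54.CS3

open Cfsg.Agent.Lib.Helper81.CS3

universe u

section basic

variable {G : Type u} [Group G]

theorem idx_cases54 {m n : ℕ} (hyp : Hyp G m n) (x : G) :
    idx x = 1 ∨ idx x = m ∨ idx x = m * n := by
  have h : idx x ∈ Set.range (fun x : G => (Subgroup.centralizer ({x} : Set G)).index) :=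
    ⟨x, rfl⟩
  rw [hyp.2.2.2.2] at h
  simpa using h

theorem exists_idx_m54 {m n : ℕ} (hyp : Hyp G m n) : ∃ x : G, idx x = m := by
  have h : m ∈ ({1, m, m * n} : Set ℕ) := by simp
  rw [← hyp.2.2.2.2] at h
  exact h

theorem idx_eq_one_iff54 (x : G) : idx x = 1 ↔ x ∈ Subgroup.center G := by
  rw [idx, Subgroup.index_eq_one]
  constructor
  · intro h
    rw [Subgroup.mem_center_iff]
    intro g
    have hg : g ∈ Subgroup.centralizer ({x} : Set G) := by rw [h]; trivial
    exact Subgroup.mem_centralizer_singleton_iff.1 hg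
  · intro h
    rw [eq_top_iff]
    intro g _
    exact Subgroup.mem_centralizer_singleton_iff.2 (Subgroup.mem_center_iff.1 h g)

theorem orderOf_conjS54 (g x : G) : orderOf (g * x * g⁻¹) = orderOf x := by
  have := MulEquiv.orderOf_eq (MulAut.conj g) x
  simpa [MulAut.conj_apply] using this

theorem comm_aux54 {w z y c : G} (hc : c = z * y) (h2 : w * c = c * w) (h4 : w * z = z * w) :
    w * y = y * w := by
  subst hc
  apply mul_left_cancel (a := z)
  calc z * (w * y) = (z * w) * y := (mul_assoc _ _ _).symm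
    _ = (w * z) * y := by rw [h4]
    _ = w * (z * y) := mul_assoc _ _ _
    _ = z * y * w := h2
    _ = z * (y * w) := mul_assoc _ _ _

/-- If `[σ, y]` is central, conjugation by `σ` preserves the centralizer of `y`. -/
theorem conj_commute_of_central54 {σ x y : G}
    (hz : σ * y * σ⁻¹ * y⁻¹ ∈ Subgroup.center G) (hxy : Commute x y) :
    Commute (σ * x * σ⁻¹) y := by
  have hzc := Subgroup.mem_center_iff.1 hz
  have h2 : σ * x * σ⁻¹ * (σ * y * σ⁻¹) = σ * y * σ⁻¹ * (σ * x * σ⁻¹) := by
    calc σ * x * σ⁻¹ * (σ * y * σ⁻¹) = σ * (x * y) * σ⁻¹ := by group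
      _ = σ * (y * x) * σ⁻¹ := by rw [hxy.eq]
      _ = σ * y * σ⁻¹ * (σ * x * σ⁻¹) := by group
  have h1 : σ * y * σ⁻¹ = (σ * y * σ⁻¹ * y⁻¹) * y := by group
  exact comm_aux54 h1 h2 (hzc (σ * x * σ⁻¹))

theorem nmhS_apply54 (A : Subgroup G) (n : Subgroup.normalizer (A : Set G)) (v : A) :
    ((A.normalizerMonoidHom n v : A) : G) = (n : G) * v * (n : G)⁻¹ := rfl

theorem fact_mul4_54 {s : ℕ} {A B C D : ℕ} (hA : A ≠ 0) (hB : B ≠ 0) (hC : C ≠ 0)
    (hD : D ≠ 0) : (A * B * (C * D)).factorization s =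
      A.factorization s + B.factorization s + (C.factorization s + D.factorization s) := by
  rw [Nat.factorization_mul (Nat.mul_ne_zero hA hB) (Nat.mul_ne_zero hC hD),
    Nat.factorization_mul hA hB, Nat.factorization_mul hC hD]
  rfl

end basic

/-- [SQ] from [STR] and [NC]. -/
theorem pkgSq (hStr : PkgStr.{u}) (hNC : PkgNC.{u}) : PkgSq.{u} := by
  intro G _ _ m n hyp hNG s hs hsm hs2
  have hsF : Fact s.Prime := ⟨hs⟩
  have hm1 : 1 < m := hyp.2.1
  have hn1 : 1 < n := hyp.2.2.1
  have hcop : Nat.gcd m n = 1 := hyp.2.2.2.1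
  have hsn : ¬ s ∣ n := fun h => hs.one_lt.ne' (Nat.dvd_one.1 (hcop ▸ Nat.dvd_gcd hsm h))
  have hm0 : m ≠ 0 := by omega
  have hn0 : n ≠ 0 := by omega
  have hG0 : Nat.card G ≠ 0 := Nat.card_pos.ne'
  obtain ⟨S⟩ : Nonempty (Sylow s G) := inferInstance
  -- an element centralized by `S` is central
  have hcent : ∀ x : G, (∀ g ∈ (S : Subgroup G), g * x = x * g) → x ∈ Subgroup.center G := by
    intro x hx
    rw [← idx_eq_one_iff54]
    have hSC : (S : Subgroup G) ≤ Subgroup.centralizer ({x} : Set G) :=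
      fun g hg => Subgroup.mem_centralizer_singleton_iff.2 (hx g hg)
    have hnd : ¬ s ∣ idx x := by
      have h1 := Subgroup.relIndex_mul_index hSC
      intro hdvd
      exact S.not_dvd_index (h1 ▸ Dvd.dvd.mul_left hdvd _)
    rcases idx_cases54 hyp x with h | h | h
    · exact h
    · rw [h] at hnd; exact absurd hsm hnd
    · rw [h] at hnd; exact absurd (Dvd.dvd.mul_right hsm n) hnd
  -- `S` is not central
  have hSnc : ∃ x0 ∈ (S : Subgroup G), x0 ∉ Subgroup.center G := by
    by_contra hall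
    push Not at hall
    obtain ⟨x, hx⟩ := exists_idx_m54 hyp
    have hxc : x ∈ Subgroup.center G :=
      hcent x (fun g hg => (Subgroup.mem_center_iff.1 (hall g hg) x).symm)
    rw [← idx_eq_one_iff54, hx] at hxc
    omega
  -- the element `y`
  obtain ⟨y, hyS, hyZ, hzS, hys⟩ : ∃ y ∈ (S : Subgroup G), y ∉ Subgroup.center G ∧
      (∀ σ ∈ (S : Subgroup G), σ * y * σ⁻¹ * y⁻¹ ∈ Subgroup.center G) ∧
      y ^ s ∈ Subgroup.center G := by
    have hSbar : IsPGroup s ((S : Subgroup G).map (QuotientGroup.mk' (Subgroup.center G))) :=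
      S.isPGroup'.map _
    have hnt : Nontrivial ((S : Subgroup G).map (QuotientGroup.mk' (Subgroup.center G))) := by
      obtain ⟨x0, hx0S, hx0Z⟩ := hSnc
      refine ⟨⟨⟨QuotientGroup.mk' (Subgroup.center G) x0, Subgroup.mem_map_of_mem _ hx0S⟩, 1, ?_⟩⟩
      intro h
      have h1 : QuotientGroup.mk' (Subgroup.center G) x0 = 1 := congrArg Subtype.val h
      rw [QuotientGroup.mk'_apply, QuotientGroup.eq_one_iff] at h1
      exact hx0Z h1
    have hcn : Nontrivial (Subgroup.center
        ((S : Subgroup G).map (QuotientGroup.mk' (Subgroup.center G)))) :=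
      hSbar.center_nontrivial
    have hcp : IsPGroup s (Subgroup.center
        ((S : Subgroup G).map (QuotientGroup.mk' (Subgroup.center G)))) := hSbar.to_subgroup _
    obtain ⟨k, hk0, hk⟩ := hcp.nontrivial_iff_card.1 hcn
    have hdvd : s ∣ Nat.card (Subgroup.center
        ((S : Subgroup G).map (QuotientGroup.mk' (Subgroup.center G)))) := by
      rw [hk]; exact dvd_pow_self s hk0.ne'
    obtain ⟨c, hc⟩ := exists_prime_orderOf_dvd_card' s hdvd
    obtain ⟨y, hyS, hyc⟩ := (c : (S : Subgroup G).map (QuotientGroup.mk' (Subgroup.center G))).2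
    have hc1 : c ≠ 1 := by
      intro h
      rw [h, orderOf_one] at hc
      exact hs.one_lt.ne hc
    refine ⟨y, hyS, ?_, ?_, ?_⟩
    · intro hy
      apply hc1
      apply Subtype.ext
      apply Subtype.ext
      rw [← hyc]
      simpa using hy
    · intro σ hσ
      have hcc := Subgroup.mem_center_iff.1 c.2
        ⟨QuotientGroup.mk' (Subgroup.center G) σ, Subgroup.mem_map_of_mem _ hσ⟩
      have h1 : QuotientGroup.mk' (Subgroup.center G) σ * QuotientGroup.mk' (Subgroup.center G) y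
          = QuotientGroup.mk' (Subgroup.center G) y * QuotientGroup.mk' (Subgroup.center G) σ := by
        have := congrArg Subtype.val hcc
        simpa [hyc] using this
      have h2 : QuotientGroup.mk' (Subgroup.center G) (σ * y * σ⁻¹ * y⁻¹) = 1 := by
        rw [map_mul, map_mul, map_mul, h1, map_inv, map_inv]
        group
      rwa [QuotientGroup.mk'_apply, QuotientGroup.eq_one_iff] at h2
    · have h1 : c ^ s = 1 := by
        have h0 := pow_orderOf_eq_one c
        rwa [hc] at h0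
      have h2 : QuotientGroup.mk' (Subgroup.center G) (y ^ s) = 1 := by
        rw [map_pow, hyc]
        have h4 := congrArg Subtype.val (congrArg Subtype.val h1)
        simpa using h4
      rwa [QuotientGroup.mk'_apply, QuotientGroup.eq_one_iff] at h2
  -- structure of `C(y)`
  have hyord : ∃ k : ℕ, orderOf y = s ^ k := by
    obtain ⟨k, hk⟩ := S.isPGroup' ⟨y, hyS⟩
    have h1 : y ^ s ^ k = 1 := by simpa using congrArg Subtype.val hk
    obtain ⟨j, -, hj⟩ := (Nat.dvd_prime_pow hs).1 (orderOf_dvd_of_pow_eq_one h1)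
    exact ⟨j, hj⟩
  have hPM : PM m s y := ⟨hs, hsm, hyord, hyZ⟩
  obtain ⟨hidxy, Sy, Ay, hSy, hAy, hAyc, hcard, ⟨j, hj⟩, hAycop⟩ := hStr m n hyp hNG s y hPM
  obtain ⟨u0, hu0c, hu0o, hu0Z⟩ := hNC m n hyp hNG s y hPM
  have hA0 : Nat.card Ay ≠ 0 := Nat.card_pos.ne'
  have hsA : ¬ s ∣ Nat.card Ay := fun h =>
    hs.one_lt.ne' (Nat.dvd_one.1 (hAycop ▸ Nat.dvd_gcd h dvd_rfl))
  -- `s`-parts
  have hfa : (Nat.card G).factorization s = j + m.factorization s := by
    rw [← hcard, hj, fact_mul4_54 (pow_ne_zero j hs.ne_zero) hA0 hm0 hn0,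
      Nat.factorization_eq_zero_of_not_dvd hsA, Nat.factorization_eq_zero_of_not_dvd hsn,
      hs.factorization_pow]
    simp
  have he2 : 2 ≤ m.factorization s := (hs.pow_dvd_iff_le_factorization hm0).1 hs2
  have hScard : Nat.card S = s ^ (Nat.card G).factorization s := S.card_eq_multiplicity
  -- conjugation by `S` preserves `S_y` and `A_y`
  have hfwS : ∀ σ ∈ (S : Subgroup G), ∀ h ∈ Sy, σ * h * σ⁻¹ ∈ Sy := by
    intro σ hσ h hh
    obtain ⟨h1, k, hk⟩ := (hSy h).1 hh
    exact (hSy _).2 ⟨conj_commute_of_central54 (hzS σ hσ) h1, k, by rw [orderOf_conjS54, hk]⟩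
  have hfwA : ∀ σ ∈ (S : Subgroup G), ∀ h ∈ Ay, σ * h * σ⁻¹ ∈ Ay := by
    intro σ hσ h hh
    obtain ⟨h1, h2⟩ := (hAy h).1 hh
    exact (hAy _).2 ⟨conj_commute_of_central54 (hzS σ hσ) h1, by rw [orderOf_conjS54]; exact h2⟩
  have hSyp : IsPGroup s Sy := by
    intro g
    obtain ⟨-, k, hk⟩ := (hSy g).1 g.2
    exact ⟨k, Subtype.ext (by rw [Subgroup.coe_pow, ← hk]; exact pow_orderOf_eq_one _)⟩
  have hnormS : (S : Subgroup G) ≤ Subgroup.normalizer (Sy : Set G) := by
    intro σ hσ
    rw [Subgroup.mem_set_normalizer_iff]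
    intro h
    constructor
    · exact fun hh => hfwS σ hσ h hh
    · intro hh
      have := hfwS σ⁻¹ (inv_mem hσ) _ hh
      have e : σ⁻¹ * (σ * h * σ⁻¹) * σ⁻¹⁻¹ = h := by group
      rwa [e] at this
  have hnormA : (S : Subgroup G) ≤ Subgroup.normalizer (Ay : Set G) := by
    intro σ hσ
    rw [Subgroup.mem_set_normalizer_iff]
    intro h
    constructor
    · exact fun hh => hfwA σ hσ h hh
    · intro hh
      have := hfwA σ⁻¹ (inv_mem hσ) _ hh
      have e : σ⁻¹ * (σ * h * σ⁻¹) * σ⁻¹⁻¹ = h := by group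
      rwa [e] at this
  have hSySub : Sy ≤ (S : Subgroup G) := by
    have hsup : IsPGroup s ((S : Subgroup G) ⊔ Sy : Subgroup G) :=
      S.isPGroup'.to_sup_of_normal_right' hSyp hnormS
    have h1 := S.is_maximal' hsup le_sup_left
    calc Sy ≤ (S : Subgroup G) ⊔ Sy := le_sup_right
      _ = (S : Subgroup G) := h1
  -- elements of `S` centralizing a non-central element of `A_y` centralize `y`
  have hstep7 : ∀ u ∈ Ay, u ∉ Subgroup.center G → ∀ g ∈ (S : Subgroup G), Commute g u →
      Commute g y := by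
    intro u hu huZ g hg hgu
    have hSyT : Sy ≤ (S : Subgroup G) ⊓ Subgroup.centralizer ({u} : Set G) := by
      intro x hx
      refine ⟨hSySub hx, Subgroup.mem_centralizer_singleton_iff.2 ?_⟩
      exact (hAyc u hu x ((hSy x).1 hx).1).eq
    have hTp : IsPGroup s ↥((S : Subgroup G) ⊓ Subgroup.centralizer ({u} : Set G)) :=
      S.isPGroup'.to_le inf_le_left
    obtain ⟨t, ht⟩ := IsPGroup.iff_card.1 hTp
    have hTdvd : Nat.card ↥((S : Subgroup G) ⊓ Subgroup.centralizer ({u} : Set G)) ∣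
        Nat.card (Subgroup.centralizer ({u} : Set G)) := Subgroup.card_dvd_of_le inf_le_right
    have hCu := (Subgroup.centralizer ({u} : Set G)).card_mul_index
    have hC0 : Nat.card (Subgroup.centralizer ({u} : Set G)) ≠ 0 := Nat.card_pos.ne'
    have hidxu : (idx u).factorization s = m.factorization s := by
      rcases idx_cases54 hyp u with h | h | h
      · exact absurd ((idx_eq_one_iff54 u).1 h) huZ
      · rw [h]
      · rw [h, Nat.factorization_mul hm0 hn0]
        simp [Nat.factorization_eq_zero_of_not_dvd hsn]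
    have hi0 : idx u ≠ 0 := Subgroup.index_ne_zero_of_finite
    have hCf : (Nat.card (Subgroup.centralizer ({u} : Set G))).factorization s = j := by
      have h1 : (Nat.card (Subgroup.centralizer ({u} : Set G)) * idx u).factorization s =
          (Nat.card G).factorization s := by rw [hCu]
      rw [Nat.factorization_mul hC0 hi0, hfa] at h1
      have h2 : (Nat.card (Subgroup.centralizer ({u} : Set G))).factorization s +
          (idx u).factorization s = j + m.factorization s := h1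
      omega
    have htj : t ≤ j := by
      rw [← hCf, ← hs.pow_dvd_iff_le_factorization hC0, ← ht]
      exact hTdvd
    have hEq : Sy = (S : Subgroup G) ⊓ Subgroup.centralizer ({u} : Set G) := by
      apply Subgroup.eq_of_le_of_card_ge hSyT
      rw [ht, hj]
      exact Nat.pow_le_pow_right hs.pos htj
    have hgT : g ∈ (S : Subgroup G) ⊓ Subgroup.centralizer ({u} : Set G) :=
      ⟨hg, Subgroup.mem_centralizer_singleton_iff.2 hgu.eq⟩
    rw [← hEq] at hgT
    exact ((hSy g).1 hgT).1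
  -- the commutator homomorphism
  let φ : ↥(S : Subgroup G) →* G := MonoidHom.mk' (fun g => (g : G) * y * (g : G)⁻¹ * y⁻¹) (by
    intro a b
    have hzb := Subgroup.mem_center_iff.1 (hzS b b.2)
    calc ((a * b : ↥(S : Subgroup G)) : G) * y * ((a * b : ↥(S : Subgroup G)) : G)⁻¹ * y⁻¹
        = (a : G) * ((b : G) * y * (b : G)⁻¹ * y⁻¹) * (y * (a : G)⁻¹ * y⁻¹) := by
          rw [Subgroup.coe_mul]; group
      _ = ((b : G) * y * (b : G)⁻¹ * y⁻¹) * ((a : G) * y * (a : G)⁻¹ * y⁻¹) := by
          rw [hzb (a : G)]; group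
      _ = ((a : G) * y * (a : G)⁻¹ * y⁻¹) * ((b : G) * y * (b : G)⁻¹ * y⁻¹) :=
          (hzb _).symm)
  have hφ : ∀ g : ↥(S : Subgroup G), φ g = (g : G) * y * (g : G)⁻¹ * y⁻¹ := fun g => rfl
  have hφ1 : ∀ g : ↥(S : Subgroup G), φ g = 1 ↔ Commute (g : G) y := by
    intro g
    rw [hφ]
    constructor
    · intro h
      have h1 : (g : G) * y = ((g : G) * y * (g : G)⁻¹ * y⁻¹) * (y * g) := by group
      rw [h, one_mul] at h1
      exact h1
    · intro h
      have h1 : (g : G) * y * (g : G)⁻¹ * y⁻¹ = ((g : G) * y) * ((g : G)⁻¹ * y⁻¹) := by group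
      rw [h1, h.eq]
      group
  have hφZ : ∀ g : ↥(S : Subgroup G), φ g ∈ Subgroup.center G := fun g => hzS g g.2
  have hφs : ∀ g : ↥(S : Subgroup G), φ g ^ s = 1 := by
    intro g
    have hzc := Subgroup.mem_center_iff.1 (hφZ g)
    have hyc := Subgroup.mem_center_iff.1 hys
    have h1 : (g : G) * y * (g : G)⁻¹ = φ g * y := by rw [hφ]; group
    have h2 : ((g : G) * y * (g : G)⁻¹) ^ s = y ^ s := by
      rw [conj_pow, hyc (g : G)]; group
    rw [h1, (show Commute (φ g) y from (hzc y).symm).mul_pow] at h2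
    exact mul_right_cancel (h2.trans (one_mul _).symm)
  -- the range of `φ` has more than `s` elements
  have hker : φ.ker = Sy.subgroupOf (S : Subgroup G) := by
    ext g
    rw [MonoidHom.mem_ker, hφ1, Subgroup.mem_subgroupOf, hSy]
    constructor
    · intro h
      refine ⟨h, ?_⟩
      obtain ⟨k, hk⟩ := S.isPGroup' g
      have h1 : (g : G) ^ s ^ k = 1 := by simpa using congrArg Subtype.val hk
      obtain ⟨i, -, hi⟩ := (Nat.dvd_prime_pow hs).1 (orderOf_dvd_of_pow_eq_one h1)
      exact ⟨i, hi⟩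
    · exact fun h => h.1
  have hkercard : Nat.card φ.ker = s ^ j := by
    rw [hker, ← hj]
    exact Nat.card_congr (Subgroup.subgroupOfEquivOfLe hSySub).toEquiv
  have hRcard : Nat.card φ.range = s ^ ((Nat.card G).factorization s - j) := by
    have h1 := φ.ker.card_mul_index
    rw [Subgroup.index_ker, hkercard, hScard] at h1
    have h2 : s ^ (Nat.card G).factorization s =
        s ^ j * s ^ ((Nat.card G).factorization s - j) := by
      rw [← pow_add]; congr 1; omega
    rw [h2] at h1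
    exact Nat.eq_of_mul_eq_mul_left (pow_pos hs.pos j) h1
  have hRbig : s < Nat.card φ.range := by
    rw [hRcard]
    calc s < s ^ 2 := by nlinarith [hs.two_le]
      _ ≤ s ^ ((Nat.card G).factorization s - j) := Nat.pow_le_pow_right hs.pos (by omega)
  -- two independent elements of the range
  obtain ⟨a, haR, ha1⟩ : ∃ a ∈ φ.range, a ≠ 1 := by
    by_contra hall
    push Not at hall
    have hbot : φ.range = ⊥ := by
      rw [eq_bot_iff]; intro x hx; exact Subgroup.mem_bot.2 (hall x hx)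
    rw [hbot, Subgroup.card_bot] at hRbig
    exact absurd hs.one_lt (by omega)
  obtain ⟨σ, rfl⟩ := haR
  have hao : orderOf (φ σ) = s := orderOf_eq_prime (hφs σ) ha1
  obtain ⟨b, hbR, hbz⟩ : ∃ b ∈ φ.range, b ∉ Subgroup.zpowers (φ σ) := by
    by_contra hall
    push Not at hall
    have hle : φ.range ≤ Subgroup.zpowers (φ σ) := hall
    have h1 := Subgroup.card_le_of_le hle
    rw [Nat.card_zpowers, hao] at h1
    omega
  obtain ⟨τ, rfl⟩ := hbR
  have hcomm_στ : Commute (φ σ) (φ τ) := (Subgroup.mem_center_iff.1 (hφZ τ) (φ σ))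
  have hind : ∀ i k : ℕ, φ σ ^ i * φ τ ^ k = 1 → s ∣ i ∧ s ∣ k := by
    intro i k h
    have hk : s ∣ k := by
      by_contra hk
      have hbo : orderOf (φ τ) ∣ s := orderOf_dvd_of_pow_eq_one (hφs τ)
      have hc : Nat.Coprime k (orderOf (φ τ)) :=
        Nat.Coprime.coprime_dvd_right hbo ((Nat.Prime.coprime_iff_not_dvd hs).2 hk).symm
      obtain ⟨k', hk'⟩ := exists_pow_eq_self_of_coprime hc
      apply hbz
      rw [← hk']
      apply Subgroup.pow_mem
      have h1 : φ τ ^ k = (φ σ ^ i)⁻¹ := eq_inv_of_mul_eq_one_right h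
      rw [h1]
      exact Subgroup.inv_mem _ (Subgroup.pow_mem _ (Subgroup.mem_zpowers _) i)
    refine ⟨?_, hk⟩
    obtain ⟨k', rfl⟩ := hk
    rw [pow_mul, hφs τ, one_pow, mul_one] at h
    rw [← hao]
    exact orderOf_dvd_of_pow_eq_one h
  -- the action on `A_y`
  have hAcomm : ∀ u v : Ay, u * v = v * u := by
    intro u v
    apply Subtype.ext
    exact ((hAyc u u.2 v ((hAy v).1 v.2).1).eq).symm
  let _ : CommGroup Ay := { (inferInstance : Group Ay) with mul_comm := hAcomm }
  let ψ : ↥(S : Subgroup G) →* MulAut Ay :=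
    Ay.normalizerMonoidHom.comp (Subgroup.inclusion hnormA)
  have hψ : ∀ (g : ↥(S : Subgroup G)) (v : Ay), ((ψ g v : Ay) : G) = (g : G) * v * (g : G)⁻¹ :=
    fun g v => rfl
  have hψ1 : ∀ g : ↥(S : Subgroup G), φ g = 1 → ψ g = 1 := by
    intro g hg
    ext v
    rw [hψ]
    have h1 : Commute (g : G) (v : G) := hAyc v v.2 g ((hφ1 g).1 hg)
    simp only [MulAut.one_apply]
    rw [h1.eq]
    group
  have hfg : ψ σ * ψ τ = ψ τ * ψ σ := by
    rw [← map_mul, ← map_mul]
    have h1 : ψ ((τ * σ)⁻¹ * (σ * τ)) = 1 := by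
      apply hψ1
      rw [map_mul, map_inv, map_mul, map_mul, hcomm_στ.eq]
      group
    rw [map_mul, map_inv] at h1
    exact (inv_mul_eq_one.1 h1).symm
  have hfs : ψ σ ^ s = 1 := by
    rw [← map_pow]; exact hψ1 _ (by rw [map_pow]; exact hφs σ)
  have hgs : ψ τ ^ s = 1 := by
    rw [← map_pow]; exact hψ1 _ (by rw [map_pow]; exact hφs τ)
  have hall := fpf_two54 (V := Ay) hs hAycop (ψ σ) (ψ τ) hfg hfs hgs
    ((Subgroup.center G).subgroupOf Ay) (by
      intro i k hik v hv
      rw [Subgroup.mem_subgroupOf]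
      by_contra hvZ
      apply hik
      apply hind i k
      rw [← map_pow, ← map_pow, ← map_mul, hφ1]
      rw [← map_pow, ← map_pow, ← map_mul] at hv
      have h1 : ((σ ^ i * τ ^ k : ↥(S : Subgroup G)) : G) * v *
          ((σ ^ i * τ ^ k : ↥(S : Subgroup G)) : G)⁻¹ = v := by
        rw [← hψ]; exact congrArg Subtype.val hv
      have h2 : Commute ((σ ^ i * τ ^ k : ↥(S : Subgroup G)) : G) (v : G) := by
        unfold Commute SemiconjBy
        calc ((σ ^ i * τ ^ k : ↥(S : Subgroup G)) : G) * v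
            = ((σ ^ i * τ ^ k : ↥(S : Subgroup G)) : G) * v *
              ((σ ^ i * τ ^ k : ↥(S : Subgroup G)) : G)⁻¹ *
              ((σ ^ i * τ ^ k : ↥(S : Subgroup G)) : G) := by group
          _ = v * ((σ ^ i * τ ^ k : ↥(S : Subgroup G)) : G) := by rw [h1]
      exact hstep7 v v.2 hvZ _ (σ ^ i * τ ^ k).2 h2)
  have hu0A : u0 ∈ Ay := (hAy u0).2 ⟨hu0c, hu0o⟩
  have := hall ⟨u0, hu0A⟩
  rw [Subgroup.mem_subgroupOf] at this
  exact hu0Z this

example : PkgStr.{0} → PkgNC.{0} → PkgSq.{0} := pkgSq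
example : PkgStr.{3} → PkgNC.{3} → PkgSq.{3} := pkgSq

end Cfsg.Agent.Lib.Helper54.CS3
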