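-- Team project CS3 = S4284 (helper81 / helper41, part GOOD), package [HY] (helper54).
import Mathlib
import Cfsg.Agent.Lib.Helper41.CS3.GoodDefs
import Cfsg.Agent.Lib.Helper24.CS3.Basics
import Cfsg.Agent.Lib.Helper54.CS3.Sq

set_option autoImplicit false

namespace Cfsg.Agent.Lib.Helper54.CS3

open Cfsg.Agent.Lib.Helper81.CS3 Cfsg.Agent.Lib.Helper41.CS3

universe u

section aux

variable {G : Type u} [Group G]

/-- In a finite group, `H ≤ K` with `|G : H| ≤ |G : K|` forces `H = K`. -/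
theorem eq_of_le_of_index_le54 [Finite G] {H K : Subgroup G} (hle : H ≤ K)
    (hidx : H.index ≤ K.index) : H = K := by
  apply Subgroup.eq_of_le_of_card_ge hle
  have h1 := H.card_mul_index
  have h2 := K.card_mul_index
  have hK0 : K.index ≠ 0 := Subgroup.index_ne_zero_of_finite
  by_contra hlt
  push Not at hlt
  have h3 : Nat.card H * H.index < Nat.card K * K.index :=
    Nat.mul_lt_mul_of_lt_of_le hlt hidx (Nat.pos_of_ne_zero hK0)
  omega

/-- The centralizer of a conjugate of `a` is abelian if `C(a)` is. -/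
theorem ab_conj54 {a g : G} (hab : Ab (Cn a)) : Ab (Cn (g * a * g⁻¹)) := by
  intro x hx x' hx'
  have key : ∀ z, z ∈ Cn (g * a * g⁻¹) → g⁻¹ * z * g ∈ Cn a := by
    intro z hz
    rw [Subgroup.mem_centralizer_singleton_iff] at hz ⊢
    calc g⁻¹ * z * g * a = g⁻¹ * (z * (g * a * g⁻¹)) * g := by group
      _ = g⁻¹ * ((g * a * g⁻¹) * z) * g := by rw [hz]
      _ = a * (g⁻¹ * z * g) := by group
  have h := hab _ (key x hx) _ (key x' hx')
  have h' : g⁻¹ * (x * x') * g = g⁻¹ * (x' * x) * g := by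
    calc g⁻¹ * (x * x') * g = (g⁻¹ * x * g) * (g⁻¹ * x' * g) := by group
      _ = (g⁻¹ * x' * g) * (g⁻¹ * x * g) := h
      _ = g⁻¹ * (x' * x) * g := by group
  exact mul_left_cancel (mul_right_cancel h')

end aux

/-- [HY] from [NC], [G4C] and [SPLIT]. -/
theorem pkgHy_of (hNC : Cfsg.Agent.Lib.Helper41.CS3.PkgNC.{u}) (hG4c : PkgG4c.{u})
    (hSplit : PkgSplit.{u}) : PkgHy.{u} := by
  intro G _ _ m n hyp s s2 a y hs hsm hs2 hs2m hne hia hab hy hiy
  have hm1 : 1 < m := hyp.2.1
  have hn1 : 1 < n := hyp.2.2.1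
  have hmax : ∀ g : G, (Subgroup.centralizer ({g} : Set G)).index ≤ m * n :=
    Cfsg.Agent.Lib.Helper24.CS3.index_le hyp
  -- (*) an element commuting with an element of class size `m` has class size `≠ m n`
  have hstar : ∀ w v : G, ix v = m → Commute w v → ix w ≠ m * n := by
    intro w v hv hwv hw
    obtain ⟨g, hg⟩ := hG4c m n hyp a hia hab v hv
    have habg : Ab (Cn (g * a * g⁻¹)) := ab_conj54 hab
    rw [← hg] at habg
    have hle : Cn v ≤ Cn w := by
      intro x hx
      rw [Subgroup.mem_centralizer_singleton_iff]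
      exact habg x hx w (Subgroup.mem_centralizer_singleton_iff.2 hwv.eq)
    have hdvd : (Cn w).index ∣ (Cn v).index := Subgroup.index_dvd_of_le hle
    have h1 : ix w ∣ m := by rw [← hv]; exact hdvd
    have h2 := Nat.le_of_dvd (by omega) h1
    rw [hw] at h2
    nlinarith
  have hix : ∀ v : G, v ∉ Subgroup.center G → ix v = m ∨ ix v = m * n := by
    intro v hv
    rcases Cfsg.Agent.Lib.Helper24.CS3.index_mem hyp v with h | h | h
    · exact absurd ((idx_eq_one_iff54 v).1 h) hv
    · exact Or.inl h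
    · exact Or.inr h
  -- a non-central `s2`-element `u` of `C(y)`
  obtain ⟨u, huy, hus2, huZ⟩ := hNC m n hyp s2 hs2 hs2m y
  have hcuy : Commute u y := Subgroup.mem_centralizer_singleton_iff.1 huy
  have hiu : ix u = m * n := by
    rcases hix u huZ with h | h
    · exact absurd hiy (hstar y u h hcuy.symm)
    · exact h
  obtain ⟨k, hk⟩ := hy
  obtain ⟨k2, hk2⟩ := hus2
  have hcop_uy : (orderOf u).Coprime (orderOf y) := by
    rw [hk, hk2]; exact Nat.Coprime.pow _ _ ((Nat.coprime_primes hs2 hs).2 hne)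
  have hCu_le : Cn u ≤ Cn y :=
    Cfsg.Agent.Lib.Helper24.CS3.cent_le_of_max hmax u y hiu hcuy hcop_uy
  have hCy_le : Cn y ≤ Cn u :=
    Cfsg.Agent.Lib.Helper24.CS3.cent_le_of_max hmax y u hiy hcuy.symm hcop_uy.symm
  -- `C(y)` is abelian
  have hAb : Ab (Cn y) := by
    intro g hg g' hg'
    obtain ⟨g1, g2, hgeq, ⟨k1, hk1⟩, hg2cop, ⟨e1, he1⟩, ⟨e2, he2⟩⟩ := hSplit s hs g
    have hcg : Commute g y := Subgroup.mem_centralizer_singleton_iff.1 hg
    have hcg1 : Commute g1 y := by rw [he1]; exact hcg.pow_left e1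
    have hcg2 : Commute g2 y := by rw [he2]; exact hcg.pow_left e2
    have h2 : Cn y ≤ Cn g2 :=
      Cfsg.Agent.Lib.Helper24.CS3.cent_le_of_max hmax y g2 hiy hcg2.symm
        (by rw [hk]; exact Nat.Coprime.pow_left k hg2cop.symm)
    have hcg1u : Commute g1 u :=
      Subgroup.mem_centralizer_singleton_iff.1
        (hCy_le (Subgroup.mem_centralizer_singleton_iff.2 hcg1.eq))
    have h1 : Cn u ≤ Cn g1 :=
      Cfsg.Agent.Lib.Helper24.CS3.cent_le_of_max hmax u g1 hiu hcg1u.symm
        (by rw [hk2, hk1]; exact Nat.Coprime.pow _ _ ((Nat.coprime_primes hs2 hs).2 hne))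
    have hg'1 := Subgroup.mem_centralizer_singleton_iff.1 (h1 (hCy_le hg'))
    have hg'2 := Subgroup.mem_centralizer_singleton_iff.1 (h2 hg')
    rw [hgeq]
    calc g1 * g2 * g' = g1 * (g2 * g') := mul_assoc _ _ _
      _ = g1 * (g' * g2) := by rw [hg'2]
      _ = (g1 * g') * g2 := (mul_assoc _ _ _).symm
      _ = (g' * g1) * g2 := by rw [hg'1]
      _ = g' * (g1 * g2) := mul_assoc _ _ _
  refine ⟨hAb, ?_⟩
  intro v hv hvZ
  have hle : Cn y ≤ Cn v := by
    intro x hx
    rw [Subgroup.mem_centralizer_singleton_iff]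
    exact hAb x hx v hv
  have hcvy : Commute v y := Subgroup.mem_centralizer_singleton_iff.1 hv
  have hiv : ix v = m * n := by
    rcases hix v hvZ with h | h
    · exact absurd hiy (hstar y v h hcvy.symm)
    · exact h
  have hidx : (Cn y).index ≤ (Cn v).index := by
    have e1 : (Cn y).index = m * n := hiy
    have e2 : (Cn v).index = m * n := hiv
    omega
  exact (eq_of_le_of_index_le54 hle hidx).symm

example : Cfsg.Agent.Lib.Helper41.CS3.PkgNC.{0} → PkgG4c.{0} → PkgSplit.{0} → PkgHy.{0} := pkgHy_of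
example : Cfsg.Agent.Lib.Helper41.CS3.PkgNC.{3} → PkgG4c.{3} → PkgSplit.{3} → PkgHy.{3} := pkgHy_of

end Cfsg.Agent.Lib.Helper54.CS3
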